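import Mathlib
import Cfsg.Prelude.Def_Characters
import Cfsg.Agent.Helper3.S3S3Defs

/-!
# S3716 (helper62): definitions for the `3² : D₈` normalizer configuration

`G` finite, `T` a Sylow 3-subgroup, elementary abelian of order 9, `C_G(T) = T`,
`C_G(g) ≤ N_G(T)` for `g ∈ T#`, and `N_G(T) = T ⋊ D₈`.

* `NData8 T x y t f` : the normalizer in coordinates (`D₈ = ⟨f, t⟩` acts on `T = ⟨x⟩ × ⟨y⟩` by signed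
  permutation matrices).
* `Loc8 a b t s` : the purely local data handed to character theory
  (`a = x`, `b = x * y` represent the two classes of elements of order 3, `a * t` and `b * s` the two
  classes of elements of order 6 with nontrivial 3-part).
* `Arith o d A B P Q n` : the arithmetic data (`d` degrees, `A B P Q` the values on `a, b, a*t, b*s`).
* `Shape o w₁ w₂ w₃ w₄` : the four possible embeddings of the rank-4 lattice of exceptional characters.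
-/

set_option autoImplicit false
open Finset

namespace Cfsg.Agent.Helper62.D8

open Cfsg.Agent.Helper3.S3S3 (pairCount)

universe u

section grp
variable {G : Type u} [Group G]

/-- `N_G(T) = T ⋊ ⟨f, t⟩ ≅ 3² : D₈`, in coordinates: `t` fixes `x` and inverts `y`,
`f` has order 4 with `x ↦ y ↦ x⁻¹`. -/
structure NData8 (T : Subgroup G) (x y t f : G) : Prop where
  x3 : x ^ 3 = 1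
  y3 : y ^ 3 = 1
  x1 : x ≠ 1
  y1 : y ≠ 1
  comm : x * y = y * x
  commT : ∀ s ∈ T, ∀ u ∈ T, s * u = u * s
  xT : x ∈ T
  yT : y ∈ T
  indep : ∀ i k : ℕ, x ^ i = y ^ k → x ^ i = 1
  memT : ∀ s ∈ T, ∃ i k : ℕ, s = x ^ i * y ^ k
  tN : t ∈ Subgroup.normalizer (T : Set G)
  fN : f ∈ Subgroup.normalizer (T : Set G)
  t2 : t ^ 2 = 1
  f4 : f ^ 4 = 1
  tf : t * f * t⁻¹ = f⁻¹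
  tx : t * x * t⁻¹ = x
  ty : t * y * t⁻¹ = y⁻¹
  fx : f * x * f⁻¹ = y
  fy : f * y * f⁻¹ = x⁻¹
  memN : ∀ n ∈ Subgroup.normalizer (T : Set G),
    ∃ s ∈ T, ∃ i j : ℕ, i < 4 ∧ j < 2 ∧ n = s * (f ^ i * t ^ j)

/-- The local data handed to character theory. -/
structure Loc8 [Fintype G] [DecidableEq G] (a b t s : G) : Prop where
  a3 : a ^ 3 = 1
  b3 : b ^ 3 = 1
  a1 : a ≠ 1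
  b1 : b ≠ 1
  t2 : t ^ 2 = 1
  s2 : s ^ 2 = 1
  t1 : t ≠ 1
  s1 : s ≠ 1
  at_comm : a * t = t * a
  bs_comm : b * s = s * b
  ai : IsConj a a⁻¹
  bi : IsConj b b⁻¹
  pi : IsConj (a * t) (a * t)⁻¹
  qi : IsConj (b * s) (b * s)⁻¹
  nab : ¬ IsConj a b
  ca : Nat.card (Subgroup.centralizer ({a} : Set G)) = 18
  cb : Nat.card (Subgroup.centralizer ({b} : Set G)) = 18
  cp : Nat.card (Subgroup.centralizer ({a * t} : Set G)) = 6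
  cq : Nat.card (Subgroup.centralizer ({b * s} : Set G)) = 6
  e1 : pairCount a b a = 648
  e2 : pairCount a b b = 648
  m0 : ∀ χ : G → ℂ, Cfsg.IsCharacter G χ →
    ∃ k : ℕ, χ 1 + 4 * χ a + 4 * χ b = 9 * (k : ℂ)
  muP1 : ∀ χ : G → ℂ, Cfsg.IsCharacter G χ →
    ∃ k : ℕ, χ 1 + 4 * χ a + 4 * χ b + 6 * χ (a * t) + 3 * χ t = 18 * (k : ℂ)
  muP2 : ∀ χ : G → ℂ, Cfsg.IsCharacter G χ →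
    ∃ k : ℕ, χ 1 + 4 * χ a + 4 * χ b - 6 * χ (a * t) - 3 * χ t = 18 * (k : ℂ)
  muQ1 : ∀ χ : G → ℂ, Cfsg.IsCharacter G χ →
    ∃ k : ℕ, χ 1 + 4 * χ a + 4 * χ b + 6 * χ (b * s) + 3 * χ s = 18 * (k : ℂ)
  muQ2 : ∀ χ : G → ℂ, Cfsg.IsCharacter G χ →
    ∃ k : ℕ, χ 1 + 4 * χ a + 4 * χ b - 6 * χ (b * s) - 3 * χ s = 18 * (k : ℂ)
  card : ∃ n : ℕ, Nat.card G = 72 * n ∧ n % 9 = 1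

end grp

section arith
variable {ι : Type*} [Fintype ι]

/-- The arithmetic data: `d` the degrees, `A B P Q` the (integer) character values on the four
classes `a, b, a*t, b*s`, `o` the principal character, `|G| = 72 n`. -/
structure Arith (o : ι) (d : ι → ℕ) (A B P Q : ι → ℤ) (n : ℕ) : Prop where
  dpos : ∀ i, 0 < d i
  d_o : d o = 1
  A_o : A o = 1
  B_o : B o = 1
  P_o : P o = 1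
  Q_o : Q o = 1
  lin : ∀ i, d i = 1 → i = o
  AA : ∑ i, A i ^ 2 = 18
  BB : ∑ i, B i ^ 2 = 18
  AB : ∑ i, A i * B i = 0
  PP : ∑ i, P i ^ 2 = 6
  QQ : ∑ i, Q i ^ 2 = 6
  PQ : ∑ i, P i * Q i = 0
  AP : ∑ i, A i * P i = 0
  AQ : ∑ i, A i * Q i = 0
  BP : ∑ i, B i * P i = 0
  BQ : ∑ i, B i * Q i = 0
  dA : ∑ i, (d i : ℤ) * A i = 0
  dB : ∑ i, (d i : ℤ) * B i = 0
  dP : ∑ i, (d i : ℤ) * P i = 0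
  dQ : ∑ i, (d i : ℤ) * Q i = 0
  dd : ∑ i, (d i : ℤ) ^ 2 = 72 * (n : ℤ)
  n10 : 10 ≤ n
  E1 : ∑ i, ((A i : ℚ) ^ 2 * (B i : ℚ)) / (d i : ℚ) = 9 / (n : ℚ)
  E2 : ∑ i, ((A i : ℚ) * (B i : ℚ) ^ 2) / (d i : ℚ) = 9 / (n : ℚ)
  m3A : ∀ i, (3 : ℤ) ∣ (d i : ℤ) - A i
  m3B : ∀ i, (3 : ℤ) ∣ (d i : ℤ) - B i
  m0 : ∀ i, ∃ k : ℕ, (d i : ℤ) + 4 * A i + 4 * B i = 9 * (k : ℤ)
  parP : ∀ i, (2 : ℤ) ∣ P i - A i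
  parQ : ∀ i, (2 : ℤ) ∣ Q i - B i
  dz : ∀ i, A i = 0 → B i = 0 → P i = 0 ∧ Q i = 0
  killP : ∀ i, (d i : ℤ) + 4 * A i + 4 * B i = 0 → (4 : ℤ) ∣ (d i : ℤ) + 2 * P i
  killQ : ∀ i, (d i : ℤ) + 4 * A i + 4 * B i = 0 → (4 : ℤ) ∣ (d i : ℤ) + 2 * Q i

variable [DecidableEq ι]

/-- indicator of a point, with values in `ℤ` -/
def ind (j : ι) : ι → ℤ := fun i => if i = j then 1 else 0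

/-- The lattice data: `w₁ = (A + 2B + 3P)/6`, `w₂ = (A + 2B - 3P)/6`, `w₃ = (2A + B + 3Q)/6`,
`w₄ = (2A + B - 3Q)/6` (the multiplicities of `χ` in the four induced exceptional characters). -/
structure Lat (o : ι) (d : ι → ℕ) (w₁ w₂ w₃ w₄ : ι → ℤ) : Prop where
  dpos : ∀ i, 0 < d i
  o1 : w₁ o = 1
  o2 : w₂ o = 0
  o3 : w₃ o = 1
  o4 : w₄ o = 0
  g11 : ∑ i, w₁ i ^ 2 = 4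
  g22 : ∑ i, w₂ i ^ 2 = 4
  g33 : ∑ i, w₃ i ^ 2 = 4
  g44 : ∑ i, w₄ i ^ 2 = 4
  g12 : ∑ i, w₁ i * w₂ i = 1
  g34 : ∑ i, w₃ i * w₄ i = 1
  g13 : ∑ i, w₁ i * w₃ i = 2
  g14 : ∑ i, w₁ i * w₄ i = 2
  g23 : ∑ i, w₂ i * w₃ i = 2
  g24 : ∑ i, w₂ i * w₄ i = 2
  d1 : ∑ i, (d i : ℤ) * w₁ i = 0
  d2 : ∑ i, (d i : ℤ) * w₂ i = 0
  d3 : ∑ i, (d i : ℤ) * w₃ i = 0
  d4 : ∑ i, (d i : ℤ) * w₄ i = 0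
  dz : ∀ i, w₁ i + w₂ i = 0 → w₃ i + w₄ i = 0 → w₁ i = 0 ∧ w₂ i = 0 ∧ w₃ i = 0 ∧ w₄ i = 0

/-- a sign -/
def IsSign (s : ℤ) : Prop := s = 1 ∨ s = -1

/-- Type 3 (the "coherent" embedding: `B₀(G)` has 9 characters). Columns
`e₁ = (1,0,0,0)`, `e₂ = (0,1,0,0)`, `e₃ = (0,0,1,0)`, `e₄ = (0,0,0,1)`, `f₁ = (0,1,0,1)`,
`f₂ = (0,1,1,0)`, `f₃ = (1,0,0,1)`, `h = (1,1,1,1)`, each up to a sign. -/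
def Shape3 (o : ι) (w₁ w₂ w₃ w₄ : ι → ℤ) : Prop :=
  ∃ e₁ e₂ e₃ e₄ f₁ f₂ f₃ h : ι, [o, e₁, e₂, e₃, e₄, f₁, f₂, f₃, h].Nodup ∧
  ∃ σ₁ σ₂ σ₃ σ₄ τ₁ τ₂ τ₃ η : ℤ, IsSign σ₁ ∧ IsSign σ₂ ∧ IsSign σ₃ ∧ IsSign σ₄ ∧
    IsSign τ₁ ∧ IsSign τ₂ ∧ IsSign τ₃ ∧ IsSign η ∧
    (∀ i, w₁ i = ind o i + σ₁ * ind e₁ i + τ₃ * ind f₃ i + η * ind h i) ∧
    (∀ i, w₂ i = σ₂ * ind e₂ i + τ₁ * ind f₁ i + τ₂ * ind f₂ i + η * ind h i) ∧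
    (∀ i, w₃ i = ind o i + σ₃ * ind e₃ i + τ₂ * ind f₂ i + η * ind h i) ∧
    (∀ i, w₄ i = σ₄ * ind e₄ i + τ₁ * ind f₁ i + τ₃ * ind f₃ i + η * ind h i)

/-- Type 4. Columns `e₃ = (0,0,1,0)`, `e₂ = (0,1,0,0)`, `f₁ = (0,1,0,1)`, `k₁ = (0,1,1,1)`,
`f₃, f₃' = (1,0,0,1)`, `k₂ = (1,1,1,0)`. -/
def Shape4 (o : ι) (w₁ w₂ w₃ w₄ : ι → ℤ) : Prop :=
  ∃ e₃ e₂ f₁ k₁ f₃ f₃' k₂ : ι, [o, e₃, e₂, f₁, k₁, f₃, f₃', k₂].Nodup ∧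
  ∃ σ₃ σ₂ τ₁ κ₁ τ₃ τ₃' κ₂ : ℤ, IsSign σ₃ ∧ IsSign σ₂ ∧ IsSign τ₁ ∧ IsSign κ₁ ∧
    IsSign τ₃ ∧ IsSign τ₃' ∧ IsSign κ₂ ∧
    (∀ i, w₁ i = ind o i + τ₃ * ind f₃ i + τ₃' * ind f₃' i + κ₂ * ind k₂ i) ∧
    (∀ i, w₂ i = σ₂ * ind e₂ i + τ₁ * ind f₁ i + κ₁ * ind k₁ i + κ₂ * ind k₂ i) ∧
    (∀ i, w₃ i = ind o i + σ₃ * ind e₃ i + κ₁ * ind k₁ i + κ₂ * ind k₂ i) ∧
    (∀ i, w₄ i = τ₁ * ind f₁ i + κ₁ * ind k₁ i + τ₃ * ind f₃ i + τ₃' * ind f₃' i)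

/-- Type 5. Columns `e₄ = (0,0,0,1)`, `f₁ = (0,1,0,1)`, `f₂, f₂' = (0,1,1,0)`, `e₁ = (1,0,0,0)`,
`k₃ = (1,0,1,1)`, `k₄ = (1,1,0,1)`. -/
def Shape5 (o : ι) (w₁ w₂ w₃ w₄ : ι → ℤ) : Prop :=
  ∃ e₄ f₁ f₂ f₂' e₁ k₃ k₄ : ι, [o, e₄, f₁, f₂, f₂', e₁, k₃, k₄].Nodup ∧
  ∃ σ₄ τ₁ τ₂ τ₂' σ₁ κ₃ κ₄ : ℤ, IsSign σ₄ ∧ IsSign τ₁ ∧ IsSign τ₂ ∧ IsSign τ₂' ∧
    IsSign σ₁ ∧ IsSign κ₃ ∧ IsSign κ₄ ∧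
    (∀ i, w₁ i = ind o i + σ₁ * ind e₁ i + κ₃ * ind k₃ i + κ₄ * ind k₄ i) ∧
    (∀ i, w₂ i = τ₁ * ind f₁ i + τ₂ * ind f₂ i + τ₂' * ind f₂' i + κ₄ * ind k₄ i) ∧
    (∀ i, w₃ i = ind o i + τ₂ * ind f₂ i + τ₂' * ind f₂' i + κ₃ * ind k₃ i) ∧
    (∀ i, w₄ i = σ₄ * ind e₄ i + τ₁ * ind f₁ i + κ₃ * ind k₃ i + κ₄ * ind k₄ i)

/-- Type 6. Columns `e₄ = (0,0,0,1)`, `e₂ = (0,1,0,0)`, `f₂ = (0,1,1,0)`, `k₁ = (0,1,1,1)`,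
`f₃ = (1,0,0,1)`, `f₀ = (1,0,1,0)`, `k₄ = (1,1,0,1)`. -/
def Shape6 (o : ι) (w₁ w₂ w₃ w₄ : ι → ℤ) : Prop :=
  ∃ e₄ e₂ f₂ k₁ f₃ f₀ k₄ : ι, [o, e₄, e₂, f₂, k₁, f₃, f₀, k₄].Nodup ∧
  ∃ σ₄ σ₂ τ₂ κ₁ τ₃ φ κ₄ : ℤ, IsSign σ₄ ∧ IsSign σ₂ ∧ IsSign τ₂ ∧ IsSign κ₁ ∧
    IsSign τ₃ ∧ IsSign φ ∧ IsSign κ₄ ∧
    (∀ i, w₁ i = ind o i + τ₃ * ind f₃ i + φ * ind f₀ i + κ₄ * ind k₄ i) ∧
    (∀ i, w₂ i = σ₂ * ind e₂ i + τ₂ * ind f₂ i + κ₁ * ind k₁ i + κ₄ * ind k₄ i) ∧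
    (∀ i, w₃ i = ind o i + τ₂ * ind f₂ i + κ₁ * ind k₁ i + φ * ind f₀ i) ∧
    (∀ i, w₄ i = σ₄ * ind e₄ i + κ₁ * ind k₁ i + τ₃ * ind f₃ i + κ₄ * ind k₄ i)

/-- The common core of `w₁` and `w₃`: `w₁ = o + εθ + a₁α₁ + a₂α₂`, `w₃ = o + εθ + b₁β₁ + b₂β₂`. -/
def Core (o : ι) (w₁ w₃ : ι → ℤ) (θ α₁ α₂ β₁ β₂ : ι) (ε a₁ a₂ b₁ b₂ : ℤ) : Prop :=
  [o, θ, α₁, α₂, β₁, β₂].Nodup ∧ IsSign ε ∧ IsSign a₁ ∧ IsSign a₂ ∧ IsSign b₁ ∧ IsSign b₂ ∧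
  (∀ i, w₁ i = ind o i + ε * ind θ i + a₁ * ind α₁ i + a₂ * ind α₂ i) ∧
  (∀ i, w₃ i = ind o i + ε * ind θ i + b₁ * ind β₁ i + b₂ * ind β₂ i)

/-- Shape (A1) of a norm-4 vector `z` with `⟨z,u⟩ = 1`, `⟨z,v⟩ = 2`, where `u = o + εθ + a₁α₁ + a₂α₂`,
`v = o + εθ + b₁β₁ + b₂β₂`: `z = εθ + bβ + g₁γ₁ + g₂γ₂`, `β ∈ {β₁, β₂}`, `γ`'s new. -/
def SecA1 (o θ α₁ α₂ β₁ β₂ : ι) (ε b₁ b₂ : ℤ) (z : ι → ℤ) : Prop :=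
  ∃ β : ι, ∃ b : ℤ, ∃ γ₁ γ₂ : ι, ∃ g₁ g₂ : ℤ, ((β = β₁ ∧ b = b₁) ∨ (β = β₂ ∧ b = b₂)) ∧ γ₁ ≠ γ₂ ∧
    γ₁ ∉ [o, θ, α₁, α₂, β₁, β₂] ∧ γ₂ ∉ [o, θ, α₁, α₂, β₁, β₂] ∧ IsSign g₁ ∧ IsSign g₂ ∧
    ∀ i, z i = ε * ind θ i + b * ind β i + g₁ * ind γ₁ i + g₂ * ind γ₂ i

/-- Shape (A2): `z = εθ + bβ ± (a₁α₁ - a₂α₂)`. -/
def SecA2 (θ α₁ α₂ β₁ β₂ : ι) (ε a₁ a₂ b₁ b₂ : ℤ) (z : ι → ℤ) : Prop :=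
  ∃ β : ι, ∃ b : ℤ, ((β = β₁ ∧ b = b₁) ∨ (β = β₂ ∧ b = b₂)) ∧
    ((∀ i, z i = ε * ind θ i + b * ind β i + a₁ * ind α₁ i - a₂ * ind α₂ i) ∨
      (∀ i, z i = ε * ind θ i + b * ind β i - a₁ * ind α₁ i + a₂ * ind α₂ i))

/-- Shape (B): `z = b₁β₁ + b₂β₂ + aα + gγ`, `α ∈ {α₁, α₂}`, `γ` new. -/
def SecB (o θ α₁ α₂ β₁ β₂ : ι) (a₁ a₂ b₁ b₂ : ℤ) (z : ι → ℤ) : Prop :=
  ∃ α : ι, ∃ a : ℤ, ∃ γ : ι, ∃ g : ℤ, ((α = α₁ ∧ a = a₁) ∨ (α = α₂ ∧ a = a₂)) ∧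
    γ ∉ [o, θ, α₁, α₂, β₁, β₂] ∧ IsSign g ∧
    ∀ i, z i = b₁ * ind β₁ i + b₂ * ind β₂ i + a * ind α i + g * ind γ i

end arith

end Cfsg.Agent.Helper62.D8
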