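import Mathlib
import Cfsg.Agent.Helper62.D8.Defs

/-!
# S3716 (helper62): the equations of type 3 in signed degrees
`X_i = σ_i d(e_i)`, `Y_j = τ_j d(f_j)`, `H = η d(h)`.
-/

set_option autoImplicit false

namespace Cfsg.Agent.Helper62.D8

/-- The equations of type 3 in signed degrees. -/
structure Eq3 (X₁ X₂ X₃ X₄ Y₁ Y₂ Y₃ H : ℤ) (n : ℕ) : Prop where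
  r1 : X₁ + Y₃ + H = -1
  r2 : X₂ + Y₁ + Y₂ + H = 0
  r3 : X₃ + Y₂ + H = -1
  r4 : X₄ + Y₁ + Y₃ + H = 0
  cX₁ : X₁ % 9 = 5
  cX₂ : X₂ % 9 = 5
  cX₃ : X₃ % 9 = 5
  cX₄ : X₄ % 9 = 5
  cY₁ : Y₁ % 9 = 1
  cY₂ : Y₂ % 9 = 1
  cY₃ : Y₃ % 9 = 1
  cH : H % 9 = 2
  rX₁ : 5 ≤ X₁ ∨ X₁ ≤ -13
  rX₂ : 5 ≤ X₂ ∨ X₂ ≤ -13
  rX₃ : 5 ≤ X₃ ∨ X₃ ≤ -13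
  rX₄ : 5 ≤ X₄ ∨ X₄ ≤ -13
  rY₁ : 10 ≤ Y₁ ∨ Y₁ ≤ -17
  rY₂ : 10 ≤ Y₂ ∨ Y₂ ≤ -17
  rY₃ : 10 ≤ Y₃ ∨ Y₃ ≤ -17
  rH : 2 ≤ H ∨ H ≤ -16
  E1 : (1 : ℚ) + 2 / X₁ + 2 / X₂ - 4 / X₃ - 4 / X₄ + 1 / Y₁ + 1 / Y₂ + 1 / Y₃ + 8 / H = 9 / n
  E2 : (1 : ℚ) - 4 / X₁ - 4 / X₂ + 2 / X₃ + 2 / X₄ + 1 / Y₁ + 1 / Y₂ + 1 / Y₃ + 8 / H = 9 / n
  S : 1 + X₁ ^ 2 + X₂ ^ 2 + X₃ ^ 2 + X₄ ^ 2 + Y₁ ^ 2 + Y₂ ^ 2 + Y₃ ^ 2 + H ^ 2 ≤ 72 * (n : ℤ)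
  n10 : 10 ≤ n

end Cfsg.Agent.Helper62.D8
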