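import Mathlib
import Cfsg.Agent.Helper62.D8.Defs
import Cfsg.Agent.Helper62.D8.Defs2
import Cfsg.Agent.Helper93.D8K5
import Cfsg.Agent.Helper93.D8K6

/-!
# S3716 (helper62): (K3a) the equations of type 3 in signed degrees (backup copy, following helper93's (K6))
-/

set_option autoImplicit false
set_option linter.unusedSectionVars false
set_option linter.unusedVariables false
set_option linter.unusedSimpArgs false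

namespace Cfsg.Agent.Helper62.D8

open Cfsg Finset
open Cfsg.Agent.Helper93.D8 (sum_eq_sum_fin ind_apply_inj ind_apply_out sum_d_w isSign_sq f_type
  sign_mul_inv)

variable {ι : Type*} [Fintype ι] [DecidableEq ι]

theorem sum_univ_nine8 {M : Type*} [AddCommMonoid M] (g : Fin 9 → M) :
    ∑ k, g k = g 0 + g 1 + g 2 + g 3 + g 4 + g 5 + g 6 + g 7 + g 8 := by
  rw [Fin.sum_univ_castSucc, Fin.sum_univ_eight]
  rfl

/-- residue and range of the signed degree of a column of type `e` -/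
theorem e_type8 (dd : ℕ) (s p : ℤ) (hs : IsSign s) (hp : p = s ∨ p = -s) (hpos : 0 < dd)
    (hm0 : ∃ k : ℕ, (dd : ℤ) + 4 * s = 9 * (k : ℤ))
    (hkill : (dd : ℤ) + 4 * s = 0 → (4 : ℤ) ∣ (dd : ℤ) + 2 * p) :
    (s * dd) % 9 = 5 ∧ (5 ≤ s * dd ∨ s * dd ≤ -13) := by
  obtain ⟨k, hk⟩ := hm0
  rcases hs with rfl | rfl
  · exact ⟨by omega, Or.inl (by omega)⟩
  · have hk0 : k ≠ 0 := by
      rintro rfl
      have h4 := hkill (by omega)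
      rcases hp with rfl | rfl <;> omega
    exact ⟨by omega, Or.inr (by omega)⟩

/-- residue and range of the signed degree of a column of type `h` -/
theorem h_type8 (dd : ℕ) (s : ℤ) (hs : IsSign s) (hpos : 0 < dd)
    (hm0 : ∃ k : ℕ, (dd : ℤ) + 16 * s = 9 * (k : ℤ)) :
    (s * dd) % 9 = 2 ∧ (2 ≤ s * dd ∨ s * dd ≤ -16) := by
  obtain ⟨k, hk⟩ := hm0
  rcases hs with rfl | rfl
  · exact ⟨by omega, Or.inl (by omega)⟩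
  · exact ⟨by omega, Or.inr (by omega)⟩

/-- (K3a) bookkeeping: the equations of type 3. -/
theorem eq3_of_shape3 (o : ι) (d : ι → ℕ) (A B P Q : ι → ℤ) (n : ℕ) (h : Arith o d A B P Q n)
    (w₁ w₂ w₃ w₄ : ι → ℤ)
    (hA : ∀ i, A i = 2 * (w₃ i + w₄ i) - (w₁ i + w₂ i))
    (hB : ∀ i, B i = 2 * (w₁ i + w₂ i) - (w₃ i + w₄ i))
    (hP : ∀ i, P i = w₁ i - w₂ i) (hQ : ∀ i, Q i = w₃ i - w₄ i)
    (hs : Shape3 o w₁ w₂ w₃ w₄) :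
    ∃ X₁ X₂ X₃ X₄ Y₁ Y₂ Y₃ H : ℤ, Eq3 X₁ X₂ X₃ X₄ Y₁ Y₂ Y₃ H n := by
  obtain ⟨e₁, e₂, e₃, e₄, f₁, f₂, f₃, hh, hnd, σ₁, σ₂, σ₃, σ₄, τ₁, τ₂, τ₃, η, hσ₁, hσ₂, hσ₃, hσ₄, hτ₁,
    hτ₂, hτ₃, hη, hw₁, hw₂, hw₃, hw₄⟩ := hs
  obtain ⟨φ, hφ, h0, h1, h2, h3, h4, h5, h6, h7, h8⟩ : ∃ φ : Fin 9 → ι, Function.Injective φ ∧
      φ 0 = o ∧ φ 1 = e₁ ∧ φ 2 = e₂ ∧ φ 3 = e₃ ∧ φ 4 = e₄ ∧ φ 5 = f₁ ∧ φ 6 = f₂ ∧ φ 7 = f₃ ∧
      φ 8 = hh := by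
    refine ⟨fun k => [o, e₁, e₂, e₃, e₄, f₁, f₂, f₃, hh].get (Fin.cast rfl k), ?_, rfl, rfl, rfl, rfl,
      rfl, rfl, rfl, rfl, rfl⟩
    exact (List.nodup_iff_injective_get.1 hnd).comp (Fin.cast_injective _)
  subst h0 h1 h2 h3 h4 h5 h6 h7 h8
  have W₁ : ∀ k, w₁ (φ k) = ![1, σ₁, 0, 0, 0, 0, 0, τ₃, η] k := by
    intro k
    rw [hw₁]
    simp only [ind_apply_inj φ hφ]
    fin_cases k <;> simp
  have W₂ : ∀ k, w₂ (φ k) = ![0, 0, σ₂, 0, 0, τ₁, τ₂, 0, η] k := by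
    intro k
    rw [hw₂]
    simp only [ind_apply_inj φ hφ]
    fin_cases k <;> simp
  have W₃ : ∀ k, w₃ (φ k) = ![1, 0, 0, σ₃, 0, 0, τ₂, 0, η] k := by
    intro k
    rw [hw₃]
    simp only [ind_apply_inj φ hφ]
    fin_cases k <;> simp
  have W₄ : ∀ k, w₄ (φ k) = ![0, 0, 0, 0, σ₄, τ₁, 0, τ₃, η] k := by
    intro k
    rw [hw₄]
    simp only [ind_apply_inj φ hφ]
    fin_cases k <;> simp
  have hout : ∀ i, (∀ k, φ k ≠ i) → w₁ i = 0 ∧ w₂ i = 0 ∧ w₃ i = 0 ∧ w₄ i = 0 := by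
    intro i hi
    rw [hw₁, hw₂, hw₃, hw₄]
    simp only [ind_apply_out φ i hi]
    simp
  have VA : ∀ k, A (φ k) = ![1, -σ₁, -σ₂, 2 * σ₃, 2 * σ₄, τ₁, τ₂, τ₃, 2 * η] k := by
    intro k
    rw [hA, W₁, W₂, W₃, W₄]
    fin_cases k <;> simp <;> ring
  have VB : ∀ k, B (φ k) = ![1, 2 * σ₁, 2 * σ₂, -σ₃, -σ₄, τ₁, τ₂, τ₃, 2 * η] k := by
    intro k
    rw [hB, W₁, W₂, W₃, W₄]
    fin_cases k <;> simp <;> ring
  have VP : ∀ k, P (φ k) = ![1, σ₁, -σ₂, 0, 0, -τ₁, -τ₂, τ₃, 0] k := by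
    intro k
    rw [hP, W₁, W₂]
    fin_cases k <;> simp
  have VQ : ∀ k, Q (φ k) = ![1, 0, 0, σ₃, -σ₄, -τ₁, τ₂, -τ₃, 0] k := by
    intro k
    rw [hQ, W₃, W₄]
    fin_cases k <;> simp
  obtain ⟨hS1, hS2, hS3, hS4⟩ := sum_d_w h w₁ w₂ w₃ w₄ hA hB hP hQ
  rw [sum_eq_sum_fin φ hφ _ (fun i hi => by rw [(hout i hi).1, mul_zero]), sum_univ_nine8] at hS1
  rw [sum_eq_sum_fin φ hφ _ (fun i hi => by rw [(hout i hi).2.1, mul_zero]), sum_univ_nine8] at hS2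
  rw [sum_eq_sum_fin φ hφ _ (fun i hi => by rw [(hout i hi).2.2.1, mul_zero]), sum_univ_nine8]
    at hS3
  rw [sum_eq_sum_fin φ hφ _ (fun i hi => by rw [(hout i hi).2.2.2, mul_zero]), sum_univ_nine8]
    at hS4
  simp only [W₁, W₂, W₃, W₄] at hS1 hS2 hS3 hS4
  simp at hS1 hS2 hS3 hS4
  have hE1 := h.E1
  rw [sum_eq_sum_fin φ hφ _ (fun i hi => by
    obtain ⟨a1, a2, a3, a4⟩ := hout i hi
    rw [hA, hB, a1, a2, a3, a4]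
    simp), sum_univ_nine8] at hE1
  simp only [VA, VB] at hE1
  simp at hE1
  have hE2 := h.E2
  rw [sum_eq_sum_fin φ hφ _ (fun i hi => by
    obtain ⟨a1, a2, a3, a4⟩ := hout i hi
    rw [hA, hB, a1, a2, a3, a4]
    simp), sum_univ_nine8] at hE2
  simp only [VA, VB] at hE2
  simp at hE2
  have hdd := h.dd
  have hd0 : d (φ 0) = 1 := h.d_o
  simp only [hd0, Nat.cast_one, inv_one] at hE1 hE2 hS1 hS3
  -- sign squares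
  have sq : ∀ s : ℤ, IsSign s → (s : ℚ) ^ 2 = 1 := by
    intro s hs
    have := isSign_sq hs
    rw [pow_two]
    exact_mod_cast this
  have s1 := sq σ₁ hσ₁
  have s2 := sq σ₂ hσ₂
  have s3 := sq σ₃ hσ₃
  have s4 := sq σ₄ hσ₄
  have t1 := sq τ₁ hτ₁
  have t2 := sq τ₂ hτ₂
  have t3 := sq τ₃ hτ₃
  have e2 := sq η hη
  -- values of `A B P Q` at the points
  have A1 : A (φ 1) = -σ₁ := by rw [VA]; simp
  have B1 : B (φ 1) = 2 * σ₁ := by rw [VB]; simp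
  have P1 : P (φ 1) = σ₁ := by rw [VP]; simp
  have A2 : A (φ 2) = -σ₂ := by rw [VA]; simp
  have B2 : B (φ 2) = 2 * σ₂ := by rw [VB]; simp
  have P2 : P (φ 2) = -σ₂ := by rw [VP]; simp
  have A3 : A (φ 3) = 2 * σ₃ := by rw [VA]; simp
  have B3 : B (φ 3) = -σ₃ := by rw [VB]; simp
  have Q3 : Q (φ 3) = σ₃ := by rw [VQ]; simp
  have A4 : A (φ 4) = 2 * σ₄ := by rw [VA]; simp
  have B4 : B (φ 4) = -σ₄ := by rw [VB]; simp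
  have Q4 : Q (φ 4) = -σ₄ := by rw [VQ]; simp
  have A5 : A (φ 5) = τ₁ := by rw [VA]; simp
  have B5 : B (φ 5) = τ₁ := by rw [VB]; simp
  have P5 : P (φ 5) = -τ₁ := by rw [VP]; simp
  have A6 : A (φ 6) = τ₂ := by rw [VA]; simp
  have B6 : B (φ 6) = τ₂ := by rw [VB]; simp
  have P6 : P (φ 6) = -τ₂ := by rw [VP]; simp
  have A7 : A (φ 7) = τ₃ := by rw [VA]; simp
  have B7 : B (φ 7) = τ₃ := by rw [VB]; simp
  have P7 : P (φ 7) = τ₃ := by rw [VP]; simp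
  have A8 : A (φ 8) = 2 * η := by rw [VA]; simp
  have B8 : B (φ 8) = 2 * η := by rw [VB]; simp
  have ne5 : d (φ 5) ≠ 1 := fun hd => absurd (hφ (h.lin (φ 5) hd)) (by decide)
  have ne6 : d (φ 6) ≠ 1 := fun hd => absurd (hφ (h.lin (φ 6) hd)) (by decide)
  have ne7 : d (φ 7) ≠ 1 := fun hd => absurd (hφ (h.lin (φ 7) hd)) (by decide)
  -- the types
  have tX1 := e_type8 (d (φ 1)) σ₁ σ₁ hσ₁ (Or.inl rfl) (h.dpos _)
    (by obtain ⟨k, hk⟩ := h.m0 (φ 1); exact ⟨k, by rw [A1, B1] at hk; linarith⟩)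
    (fun h0 => by have := h.killP (φ 1) (by rw [A1, B1]; linarith); rwa [P1] at this)
  have tX2 := e_type8 (d (φ 2)) σ₂ (-σ₂) hσ₂ (Or.inr rfl) (h.dpos _)
    (by obtain ⟨k, hk⟩ := h.m0 (φ 2); exact ⟨k, by rw [A2, B2] at hk; linarith⟩)
    (fun h0 => by have := h.killP (φ 2) (by rw [A2, B2]; linarith); rwa [P2] at this)
  have tX3 := e_type8 (d (φ 3)) σ₃ σ₃ hσ₃ (Or.inl rfl) (h.dpos _)
    (by obtain ⟨k, hk⟩ := h.m0 (φ 3); exact ⟨k, by rw [A3, B3] at hk; linarith⟩)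
    (fun h0 => by have := h.killQ (φ 3) (by rw [A3, B3]; linarith); rwa [Q3] at this)
  have tX4 := e_type8 (d (φ 4)) σ₄ (-σ₄) hσ₄ (Or.inr rfl) (h.dpos _)
    (by obtain ⟨k, hk⟩ := h.m0 (φ 4); exact ⟨k, by rw [A4, B4] at hk; linarith⟩)
    (fun h0 => by have := h.killQ (φ 4) (by rw [A4, B4]; linarith); rwa [Q4] at this)
  have tY1 := f_type (d (φ 5)) τ₁ (-τ₁) hτ₁ (Or.inr rfl) (h.dpos _) ne5
    (by obtain ⟨k, hk⟩ := h.m0 (φ 5); exact ⟨k, by rw [A5, B5] at hk; linarith⟩)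
    (fun h0 => by have := h.killP (φ 5) (by rw [A5, B5]; linarith); rwa [P5] at this)
  have tY2 := f_type (d (φ 6)) τ₂ (-τ₂) hτ₂ (Or.inr rfl) (h.dpos _) ne6
    (by obtain ⟨k, hk⟩ := h.m0 (φ 6); exact ⟨k, by rw [A6, B6] at hk; linarith⟩)
    (fun h0 => by have := h.killP (φ 6) (by rw [A6, B6]; linarith); rwa [P6] at this)
  have tY3 := f_type (d (φ 7)) τ₃ τ₃ hτ₃ (Or.inl rfl) (h.dpos _) ne7
    (by obtain ⟨k, hk⟩ := h.m0 (φ 7); exact ⟨k, by rw [A7, B7] at hk; linarith⟩)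
    (fun h0 => by have := h.killP (φ 7) (by rw [A7, B7]; linarith); rwa [P7] at this)
  have tH := h_type8 (d (φ 8)) η hη (h.dpos _)
    (by obtain ⟨k, hk⟩ := h.m0 (φ 8); exact ⟨k, by rw [A8, B8] at hk; linarith⟩)
  -- the bound `S ≤ 72 n`
  have hSle : ∑ k, (d (φ k) : ℤ) ^ 2 ≤ ∑ i, (d i : ℤ) ^ 2 := by
    rw [← Finset.sum_image (s := Finset.univ) (g := φ) (f := fun i => (d i : ℤ) ^ 2)
      (fun a _ b _ hab => hφ hab)]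
    exact Finset.sum_le_sum_of_subset_of_nonneg (Finset.subset_univ _) (fun i _ _ => sq_nonneg _)
  rw [hdd, sum_univ_nine8, hd0] at hSle
  have sqd : ∀ (s : ℤ) (dd : ℕ), IsSign s → (s * (dd : ℤ)) ^ 2 = (dd : ℤ) ^ 2 := by
    intro s dd hs
    linear_combination ((dd : ℤ) ^ 2) * (isSign_sq hs)
  have key : ∀ (s : ℤ) (dd : ℕ), IsSign s → ((s : ℚ) * (dd : ℚ))⁻¹ = (s : ℚ) * ((dd : ℚ))⁻¹ := by
    intro s dd hs
    rcases hs with rfl | rfl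
    · simp
    · push_cast
      rw [neg_one_mul, neg_one_mul, inv_neg]
  refine ⟨σ₁ * (d (φ 1) : ℤ), σ₂ * (d (φ 2) : ℤ), σ₃ * (d (φ 3) : ℤ), σ₄ * (d (φ 4) : ℤ),
    τ₁ * (d (φ 5) : ℤ), τ₂ * (d (φ 6) : ℤ), τ₃ * (d (φ 7) : ℤ), η * (d (φ 8) : ℤ), ?_⟩
  refine
    { r1 := by linarith
      r2 := by linarith
      r3 := by linarith
      r4 := by linarith
      cX₁ := tX1.1
      cX₂ := tX2.1
      cX₃ := tX3.1
      cX₄ := tX4.1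
      cY₁ := tY1.1
      cY₂ := tY2.1
      cY₃ := tY3.1
      cH := tH.1
      rX₁ := tX1.2
      rX₂ := tX2.2
      rX₃ := tX3.2
      rX₄ := tX4.2
      rY₁ := tY1.2
      rY₂ := tY2.2
      rY₃ := tY3.2
      rH := tH.2
      E1 := ?_
      E2 := ?_
      S := ?_
      n10 := h.n10 }
  · push_cast
    simp only [div_eq_mul_inv, key _ _ hσ₁, key _ _ hσ₂, key _ _ hσ₃, key _ _ hσ₄, key _ _ hτ₁,
      key _ _ hτ₂, key _ _ hτ₃, key _ _ hη]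
    simp only [div_eq_mul_inv] at hE1
    linear_combination hE1 - 2 * ((σ₁ : ℚ) * ((d (φ 1) : ℚ))⁻¹) * s1 -
      2 * ((σ₂ : ℚ) * ((d (φ 2) : ℚ))⁻¹) * s2 + 4 * ((σ₃ : ℚ) * ((d (φ 3) : ℚ))⁻¹) * s3 +
      4 * ((σ₄ : ℚ) * ((d (φ 4) : ℚ))⁻¹) * s4 - ((τ₁ : ℚ) * ((d (φ 5) : ℚ))⁻¹) * t1 -
      ((τ₂ : ℚ) * ((d (φ 6) : ℚ))⁻¹) * t2 - ((τ₃ : ℚ) * ((d (φ 7) : ℚ))⁻¹) * t3 -
      8 * ((η : ℚ) * ((d (φ 8) : ℚ))⁻¹) * e2
  · push_cast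
    simp only [div_eq_mul_inv, key _ _ hσ₁, key _ _ hσ₂, key _ _ hσ₃, key _ _ hσ₄, key _ _ hτ₁,
      key _ _ hτ₂, key _ _ hτ₃, key _ _ hη]
    simp only [div_eq_mul_inv] at hE2
    linear_combination hE2 + 4 * ((σ₁ : ℚ) * ((d (φ 1) : ℚ))⁻¹) * s1 +
      4 * ((σ₂ : ℚ) * ((d (φ 2) : ℚ))⁻¹) * s2 - 2 * ((σ₃ : ℚ) * ((d (φ 3) : ℚ))⁻¹) * s3 -
      2 * ((σ₄ : ℚ) * ((d (φ 4) : ℚ))⁻¹) * s4 - ((τ₁ : ℚ) * ((d (φ 5) : ℚ))⁻¹) * t1 -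
      ((τ₂ : ℚ) * ((d (φ 6) : ℚ))⁻¹) * t2 - ((τ₃ : ℚ) * ((d (φ 7) : ℚ))⁻¹) * t3 -
      8 * ((η : ℚ) * ((d (φ 8) : ℚ))⁻¹) * e2
  · rw [sqd _ _ hσ₁, sqd _ _ hσ₂, sqd _ _ hσ₃, sqd _ _ hσ₄, sqd _ _ hτ₁, sqd _ _ hτ₂, sqd _ _ hτ₃,
      sqd _ _ hη]
    push_cast at hSle
    linarith
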