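import Mathlib
import Cfsg.Agent.Helper62.D8.Defs
import Cfsg.Agent.Helper62.D8.Defs2
import Cfsg.Agent.Helper62.D8.K3a
import Cfsg.Agent.Helper69.D8KW
import Cfsg.Agent.Helper59.D8K1d
import Cfsg.Agent.Helper68.D8K1ab
import Cfsg.Agent.Helper47.D8K1c
import Cfsg.Agent.Helper22.D8K3bFinal
import Cfsg.Agent.Helper41.D8K4
import Cfsg.Agent.Helper93.D8K5
import Cfsg.Agent.Helper93.D8K6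

/-!
# S3716 (helper62): the arithmetic core `arith_false`, assembled from the pieces
(KW) helper69, (K1ab) helper68, (K1c) helper47, (K1d) helper59 (also helper69), (K3a) helper62, (K3b) helper22,
(KDI) helper24, (K4) helper41, (K5) (K6) helper93, (KD6) helper41.
-/

set_option autoImplicit false
open Cfsg Finset

namespace Cfsg.Agent.Helper62.D8

section
variable {ι : Type*} [Fintype ι] [DecidableEq ι]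

omit [Fintype ι] in
theorem Core.symm8 {o : ι} {u v : ι → ℤ} {θ α₁ α₂ β₁ β₂ : ι} {ε a₁ a₂ b₁ b₂ : ℤ}
    (hc : Core o u v θ α₁ α₂ β₁ β₂ ε a₁ a₂ b₁ b₂) : Core o v u θ β₁ β₂ α₁ α₂ ε b₁ b₂ a₁ a₂ := by
  obtain ⟨hnd, hε, ha₁, ha₂, hb₁, hb₂, hu, hv⟩ := hc
  refine ⟨?_, hε, hb₁, hb₂, ha₁, ha₂, hv, hu⟩
  have hp : [o, θ, β₁, β₂, α₁, α₂].Perm [o, θ, α₁, α₂, β₁, β₂] :=
    List.Perm.cons o (List.Perm.cons θ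
      (List.perm_append_comm (l₁ := [β₁, β₂]) (l₂ := [α₁, α₂])))
  exact hp.nodup_iff.mpr hnd

/-- (K1abc) from (K1ab) + (K1c). -/
theorem core_of_lat (o : ι) (d : ι → ℕ) (w₁ w₂ w₃ w₄ : ι → ℤ) (h : Lat o d w₁ w₂ w₃ w₄) :
    ∃ θ α₁ α₂ β₁ β₂ : ι, ∃ ε a₁ a₂ b₁ b₂ : ℤ, Core o w₁ w₃ θ α₁ α₂ β₁ β₂ ε a₁ a₂ b₁ b₂ ∧
      (SecA1 o θ α₁ α₂ β₁ β₂ ε b₁ b₂ w₂ ∨ SecA2 θ α₁ α₂ β₁ β₂ ε a₁ a₂ b₁ b₂ w₂ ∨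
        SecB o θ α₁ α₂ β₁ β₂ a₁ a₂ b₁ b₂ w₂) ∧
      (SecA1 o θ β₁ β₂ α₁ α₂ ε a₁ a₂ w₄ ∨ SecA2 θ β₁ β₂ α₁ α₂ ε b₁ b₂ a₁ a₂ w₄ ∨
        SecB o θ β₁ β₂ α₁ α₂ b₁ b₂ a₁ a₂ w₄) := by
  obtain ⟨θ, α₁, α₂, β₁, β₂, ε, a₁, a₂, b₁, b₂, hc⟩ := Cfsg.Agent.Helper68.D8K1ab.core13_of_lat o d w₁ w₂ w₃ w₄ h
  refine ⟨θ, α₁, α₂, β₁, β₂, ε, a₁, a₂, b₁, b₂, hc, ?_, ?_⟩
  · refine Cfsg.Agent.Helper47.D8.sec_of_core o w₁ w₃ w₂ θ α₁ α₂ β₁ β₂ ε a₁ a₂ b₁ b₂ hc h.o2 h.g22 h.g12 ?_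
    rw [← h.g23]
    exact Finset.sum_congr rfl fun i _ => mul_comm _ _
  · exact Cfsg.Agent.Helper47.D8.sec_of_core o w₃ w₁ w₄ θ β₁ β₂ α₁ α₂ ε b₁ b₂ a₁ a₂ hc.symm8 h.o4 h.g44 h.g34 h.g14

/-- (K1) -/
theorem shape_of_lat (o : ι) (d : ι → ℕ) (w₁ w₂ w₃ w₄ : ι → ℤ) (h : Lat o d w₁ w₂ w₃ w₄) :
    Shape3 o w₁ w₂ w₃ w₄ ∨ Shape4 o w₁ w₂ w₃ w₄ ∨ Shape5 o w₁ w₂ w₃ w₄ ∨ Shape6 o w₁ w₂ w₃ w₄ := by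
  obtain ⟨θ, α₁, α₂, β₁, β₂, ε, a₁, a₂, b₁, b₂, hc, h2, h4⟩ := core_of_lat o d w₁ w₂ w₃ w₄ h
  exact Cfsg.Agent.Helper59.D8.shape_of_core o d w₁ w₂ w₃ w₄ h θ α₁ α₂ β₁ β₂ ε a₁ a₂ b₁ b₂ hc h2 h4

/-- (K3) type 3 is impossible. -/
theorem shape3_false (o : ι) (d : ι → ℕ) (A B P Q : ι → ℤ) (n : ℕ) (h : Arith o d A B P Q n)
    (w₁ w₂ w₃ w₄ : ι → ℤ)
    (hA : ∀ i, A i = 2 * (w₃ i + w₄ i) - (w₁ i + w₂ i))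
    (hB : ∀ i, B i = 2 * (w₁ i + w₂ i) - (w₃ i + w₄ i))
    (hP : ∀ i, P i = w₁ i - w₂ i) (hQ : ∀ i, Q i = w₃ i - w₄ i)
    (hs : Shape3 o w₁ w₂ w₃ w₄) : False := by
  obtain ⟨X₁, X₂, X₃, X₄, Y₁, Y₂, Y₃, H, he⟩ :=
    eq3_of_shape3 o d A B P Q n h w₁ w₂ w₃ w₄ hA hB hP hQ hs
  exact Cfsg.Agent.Helper22.D8.eq3_false X₁ X₂ X₃ X₄ Y₁ Y₂ Y₃ H n he

/-- (K0) the arithmetic core. -/
theorem arith_false (o : ι) (d : ι → ℕ) (A B P Q : ι → ℤ) (n : ℕ) (h : Arith o d A B P Q n) :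
    False := by
  obtain ⟨w₁, w₂, w₃, w₄, hL, hA, hB, hP, hQ⟩ := Cfsg.Agent.Helper69.D8.lat_of_arith o d A B P Q n h
  rcases shape_of_lat o d w₁ w₂ w₃ w₄ hL with hs | hs | hs | hs
  · exact shape3_false o d A B P Q n h w₁ w₂ w₃ w₄ hA hB hP hQ hs
  · exact Cfsg.Agent.Helper41.D8.shape4_false o d A B P Q n h w₁ w₂ w₃ w₄ hA hB hP hQ hs
  · exact Cfsg.Agent.Helper93.D8.shape5_false o d A B P Q n h w₁ w₂ w₃ w₄ hA hB hP hQ hs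
  · exact Cfsg.Agent.Helper93.D8.shape6_false o d A B P Q n h w₁ w₂ w₃ w₄ hA hB hP hQ hs

end

end Cfsg.Agent.Helper62.D8
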