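import Mathlib
import Cfsg.Agent.Helper62.D8.Defs
import Cfsg.Agent.Helper20.D8C1
import Cfsg.Agent.Helper20.D8C3
import Cfsg.Agent.Helper55.D8C4
import Cfsg.Agent.Helper75.D8C5
import Cfsg.Agent.Helper74.CharBasic
import Cfsg.Agent.Helper79.Linear
import Cfsg.Agent.Helper79.CharComplete
import Cfsg.Agent.Helper79.S3S3CH1
import Cfsg.Agent.Helper91.S3S3CH2a
import Cfsg.Agent.Helper91.S3S3CH2b

/-!
# S3716 (helper62): (C6) the glue from the local data `Loc8` to the arithmetic data `Arith`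
-/

set_option autoImplicit false
open Cfsg Finset
open scoped ComplexConjugate

namespace Cfsg.Agent.Helper62.D8

open Cfsg.Agent.Helper3.S3S3 (pairCount)

universe u

section chr
variable {G : Type u} [Group G]

theorem isConj_pow8 {u v : G} (hc : IsConj u v) (k : ℕ) : IsConj (u ^ k) (v ^ k) := by
  obtain ⟨c, hc⟩ := isConj_iff.mp hc
  exact isConj_iff.mpr ⟨c, by rw [← hc, conj_pow]⟩

theorem comm_pow8 {u v : G} (huv : u * v = v * u) (k : ℕ) : (u * v) ^ k = u ^ k * v ^ k :=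
  (show Commute u v from huv).mul_pow k

variable [Finite G]

/-- (C6) the glue: local data + perfectness give the arithmetic data. -/
theorem arith_of_loc8 [Fintype G] [DecidableEq G] [Fintype (IrrCharacter G)] (a b t s : G)
    (h : Loc8 a b t s) (hperf : commutator G = ⊤)
    (hlin : ∀ χ : IrrCharacter G, charDegree (χ : G → ℂ) = 1 →
      χ = Cfsg.Agent.Helper79.principalIrr G)
    (hbig : 72 < Nat.card G) :
    ∃ (d : IrrCharacter G → ℕ) (A B P Q : IrrCharacter G → ℤ) (n : ℕ),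
      Arith (Cfsg.Agent.Helper79.principalIrr G) d A B P Q n := by
  classical
  obtain ⟨n, hcard, hn9⟩ := h.card
  have hchar := fun χ : IrrCharacter G => Cfsg.Agent.Helper74.irr_isCharacter χ
  -- powers
  have a4 : a ^ 4 = a := by rw [pow_succ, h.a3, one_mul]
  have b4 : b ^ 4 = b := by rw [pow_succ, h.b3, one_mul]
  have t3 : t ^ 3 = t := by rw [pow_succ, h.t2, one_mul]
  have s3 : s ^ 3 = s := by rw [pow_succ, h.s2, one_mul]
  have t4 : t ^ 4 = 1 := by rw [show 4 = 2 * 2 by norm_num, pow_mul, h.t2, one_pow]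
  have s4 : s ^ 4 = 1 := by rw [show 4 = 2 * 2 by norm_num, pow_mul, h.s2, one_pow]
  have at3 : (a * t) ^ 3 = t := by rw [comm_pow8 h.at_comm, h.a3, t3, one_mul]
  have bs3 : (b * s) ^ 3 = s := by rw [comm_pow8 h.bs_comm, h.b3, s3, one_mul]
  have at4 : (a * t) ^ 4 = a := by rw [comm_pow8 h.at_comm, a4, t4, mul_one]
  have bs4 : (b * s) ^ 4 = b := by rw [comm_pow8 h.bs_comm, b4, s4, mul_one]
  have at2 : (a * t) ^ 2 = a⁻¹ := by
    rw [comm_pow8 h.at_comm, h.t2, mul_one]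
    exact eq_inv_of_mul_eq_one_left (by rw [← pow_succ, h.a3])
  have bs2 : (b * s) ^ 2 = b⁻¹ := by
    rw [comm_pow8 h.bs_comm, h.s2, mul_one]
    exact eq_inv_of_mul_eq_one_left (by rw [← pow_succ, h.b3])
  have at6 : (a * t) ^ 6 = 1 := by
    rw [show 6 = 3 * 2 by norm_num, pow_mul, at3, h.t2]
  have bs6 : (b * s) ^ 6 = 1 := by
    rw [show 6 = 3 * 2 by norm_num, pow_mul, bs3, h.s2]
  have t6 : t ^ 6 = 1 := by rw [show 6 = 2 * 3 by norm_num, pow_mul, h.t2, one_pow]
  have s6 : s ^ 6 = 1 := by rw [show 6 = 2 * 3 by norm_num, pow_mul, h.s2, one_pow]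
  have tinv : t⁻¹ = t := by
    rw [inv_eq_iff_mul_eq_one, ← pow_two, h.t2]
  have sinv : s⁻¹ = s := by
    rw [inv_eq_iff_mul_eq_one, ← pow_two, h.s2]
  have tconj : IsConj t t⁻¹ := by rw [tinv]
  have sconj : IsConj s s⁻¹ := by rw [sinv]
  -- integrality
  have ha := fun χ : IrrCharacter G => Cfsg.Agent.Helper79.S3S3.irr_order_three_value χ a h.a3 h.ai
  have hb := fun χ : IrrCharacter G => Cfsg.Agent.Helper79.S3S3.irr_order_three_value χ b h.b3 h.bi
  have hp := fun χ : IrrCharacter G =>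
    Cfsg.Agent.Helper20.D8.irr_real_six_int (χ : G → ℂ) (hchar χ) (a * t) at6 h.pi
  have hq := fun χ : IrrCharacter G =>
    Cfsg.Agent.Helper20.D8.irr_real_six_int (χ : G → ℂ) (hchar χ) (b * s) bs6 h.qi
  have ht := fun χ : IrrCharacter G =>
    Cfsg.Agent.Helper20.D8.irr_real_six_int (χ : G → ℂ) (hchar χ) t t6 tconj
  have hs := fun χ : IrrCharacter G =>
    Cfsg.Agent.Helper20.D8.irr_real_six_int (χ : G → ℂ) (hchar χ) s s6 sconj
  choose ma hma using ha
  choose mb hmb using hb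
  choose P hP using hp
  choose Q hQ using hq
  choose Tt hTt using ht
  choose Ts hTs using hs
  set d : IrrCharacter G → ℕ := fun χ => charDegree (χ : G → ℂ) with hddef
  have hd1 : ∀ χ : IrrCharacter G, (χ : G → ℂ) 1 = (d χ : ℂ) :=
    fun χ => Cfsg.Agent.Helper79.irr_one χ
  let A : IrrCharacter G → ℤ := fun χ => (d χ : ℤ) - 3 * (ma χ : ℤ)
  let B : IrrCharacter G → ℤ := fun χ => (d χ : ℤ) - 3 * (mb χ : ℤ)
  have hA : ∀ χ : IrrCharacter G, (χ : G → ℂ) a = (A χ : ℂ) := by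
    intro χ; rw [hma χ, hd1 χ]; simp only [A]; push_cast; ring
  have hB : ∀ χ : IrrCharacter G, (χ : G → ℂ) b = (B χ : ℂ) := by
    intro χ; rw [hmb χ, hd1 χ]; simp only [B]; push_cast; ring
  have hD : ∀ χ : IrrCharacter G, (χ : G → ℂ) 1 = (((d χ : ℕ) : ℤ) : ℂ) := by
    intro χ; rw [hd1 χ]; push_cast; rfl
  have one_val : ∀ g : G,
      ((Cfsg.Agent.Helper79.principalIrr G : IrrCharacter G) : G → ℂ) g = 1 := fun g => rfl
  have hAo : A (Cfsg.Agent.Helper79.principalIrr G) = 1 := by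
    have := hA (Cfsg.Agent.Helper79.principalIrr G); rw [one_val] at this; exact_mod_cast this.symm
  have hBo : B (Cfsg.Agent.Helper79.principalIrr G) = 1 := by
    have := hB (Cfsg.Agent.Helper79.principalIrr G); rw [one_val] at this; exact_mod_cast this.symm
  have hPo : P (Cfsg.Agent.Helper79.principalIrr G) = 1 := by
    have := hP (Cfsg.Agent.Helper79.principalIrr G); rw [one_val] at this; exact_mod_cast this.symm
  have hQo : Q (Cfsg.Agent.Helper79.principalIrr G) = 1 := by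
    have := hQ (Cfsg.Agent.Helper79.principalIrr G); rw [one_val] at this; exact_mod_cast this.symm
  have hdo : d (Cfsg.Agent.Helper79.principalIrr G) = 1 := by
    have := hd1 (Cfsg.Agent.Helper79.principalIrr G); rw [one_val] at this; exact_mod_cast this.symm
  -- non-conjugacy
  have ha1 : ¬ IsConj a 1 := fun hc => h.a1 (isConj_one_left.mp hc)
  have hb1 : ¬ IsConj b 1 := fun hc => h.b1 (isConj_one_left.mp hc)
  have hat1 : a * t ≠ 1 := by
    intro hc
    have := at3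
    rw [hc, one_pow] at this
    exact h.t1 this.symm
  have hbs1 : b * s ≠ 1 := by
    intro hc
    have := bs3
    rw [hc, one_pow] at this
    exact h.s1 this.symm
  have hp1 : ¬ IsConj (a * t) 1 := fun hc => hat1 (isConj_one_left.mp hc)
  have hq1 : ¬ IsConj (b * s) 1 := fun hc => hbs1 (isConj_one_left.mp hc)
  have hba : ¬ IsConj b a := fun hc => h.nab hc.symm
  have hpa : ¬ IsConj (a * t) a := by
    intro hc
    have := isConj_pow8 hc 3
    rw [at3, h.a3] at this
    exact h.t1 (isConj_one_left.mp this)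
  have hpb : ¬ IsConj (a * t) b := by
    intro hc
    have := isConj_pow8 hc 3
    rw [at3, h.b3] at this
    exact h.t1 (isConj_one_left.mp this)
  have hqa : ¬ IsConj (b * s) a := by
    intro hc
    have := isConj_pow8 hc 3
    rw [bs3, h.a3] at this
    exact h.s1 (isConj_one_left.mp this)
  have hqb : ¬ IsConj (b * s) b := by
    intro hc
    have := isConj_pow8 hc 3
    rw [bs3, h.b3] at this
    exact h.s1 (isConj_one_left.mp this)
  have hqp : ¬ IsConj (b * s) (a * t) := by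
    intro hc
    have := isConj_pow8 hc 4
    rw [bs4, at4] at this
    exact hba this
  -- orthogonality
  have nrm : ∀ (p : G) (F : IrrCharacter G → ℤ) (c : ℕ),
      (∀ χ : IrrCharacter G, (χ : G → ℂ) p = (F χ : ℂ)) →
      Nat.card (Subgroup.centralizer ({p} : Set G)) = c → ∑ χ, F χ ^ 2 = (c : ℤ) := by
    intro p F c hF hc
    have := Cfsg.Agent.Helper91.S3S3.sum_int_cols_mul p p F F hF hF
    rw [if_pos (IsConj.refl p), hc] at this
    rw [← this]
    exact Finset.sum_congr rfl fun χ _ => by ring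
  have orth : ∀ (p q : G) (F F' : IrrCharacter G → ℤ),
      (∀ χ : IrrCharacter G, (χ : G → ℂ) p = (F χ : ℂ)) →
      (∀ χ : IrrCharacter G, (χ : G → ℂ) q = (F' χ : ℂ)) →
      ¬ IsConj q p → ∑ χ, F χ * F' χ = 0 := by
    intro p q F F' hF hF' hpq
    have := Cfsg.Agent.Helper91.S3S3.sum_int_cols_mul p q F F' hF hF'
    rwa [if_neg hpq] at this
  have dorth : ∀ (q : G) (F : IrrCharacter G → ℤ),
      (∀ χ : IrrCharacter G, (χ : G → ℂ) q = (F χ : ℂ)) →
      ¬ IsConj q 1 → ∑ χ : IrrCharacter G, (d χ : ℤ) * F χ = 0 := by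
    intro q F hF hq
    have := Cfsg.Agent.Helper91.S3S3.sum_int_cols_mul 1 q (fun χ => ((d χ : ℕ) : ℤ)) F hD hF
    rwa [if_neg hq] at this
  have hPP : ∑ χ, P χ ^ 2 = 6 := by
    have := nrm (a * t) P 6 hP h.cp; exact_mod_cast this
  have hQQ : ∑ χ, Q χ ^ 2 = 6 := by
    have := nrm (b * s) Q 6 hQ h.cq; exact_mod_cast this
  -- the order
  have hnpos : 0 < n := by
    rcases Nat.eq_zero_or_pos n with h0 | h0
    · rw [h0] at hn9; omega
    · exact h0
  have hn10 : 10 ≤ n := by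
    rw [hcard] at hbig
    omega
  have hnQ : (n : ℚ) ≠ 0 := by exact_mod_cast hnpos.ne'
  have hE : ∀ r : G, ∀ R : IrrCharacter G → ℤ,
      (∀ χ : IrrCharacter G, (χ : G → ℂ) r = (R χ : ℂ)) → pairCount a b r = 648 →
      ∑ χ : IrrCharacter G, ((A χ : ℚ) * (B χ : ℚ) * (R χ : ℚ)) / (d χ : ℚ) = 9 / (n : ℚ) := by
    intro r R hR he
    have := Cfsg.Agent.Helper91.S3S3.sum_int_cols_eq a b r A B R hA hB hR
    rw [he, hcard] at this
    rw [this]
    push_cast
    field_simp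
    norm_num
  -- indices
  have hidxP : ((Subgroup.centralizer ({a * t} : Set G)).index : ℤ) = 12 * (n : ℤ) := by
    have := Subgroup.card_mul_index (Subgroup.centralizer ({a * t} : Set G))
    rw [h.cp, hcard] at this
    have h2 : (Subgroup.centralizer ({a * t} : Set G)).index = 12 * n := by omega
    rw [h2]; push_cast; ring
  have hidxQ : ((Subgroup.centralizer ({b * s} : Set G)).index : ℤ) = 12 * (n : ℤ) := by
    have := Subgroup.card_mul_index (Subgroup.centralizer ({b * s} : Set G))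
    rw [h.cq, hcard] at this
    have h2 : (Subgroup.centralizer ({b * s} : Set G)).index = 12 * n := by omega
    rw [h2]; push_cast; ring
  have hm0 : ∀ χ : IrrCharacter G, ∃ k : ℕ, (d χ : ℤ) + 4 * A χ + 4 * B χ = 9 * (k : ℤ) := by
    intro χ
    obtain ⟨k, hk⟩ := h.m0 (χ : G → ℂ) (hchar χ)
    refine ⟨k, ?_⟩
    rw [hd1 χ, hA χ, hB χ] at hk
    exact_mod_cast hk
  -- vanishing of defect zero characters
  have vanish : ∀ (u : G) (F : IrrCharacter G → ℤ),
      (∀ χ : IrrCharacter G, (χ : G → ℂ) u = (F χ : ℂ)) →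
      ((Subgroup.centralizer ({u} : Set G)).index : ℤ) = 12 * (n : ℤ) →
      ∑ χ, F χ ^ 2 = 6 → ∀ χ, A χ = 0 → B χ = 0 → F χ = 0 := by
    intro u F hF hidx hFF χ hA0 hB0
    obtain ⟨k, hk⟩ := hm0 χ
    rw [hA0, hB0] at hk
    have hdvd := Cfsg.Agent.Helper75.D8.degree_dvd_index_mul χ u (F χ) (hF χ)
    rw [hidx] at hdvd
    have h9 : (9 : ℤ) ∣ 12 * (n : ℤ) * F χ := by
      refine Dvd.dvd.trans ⟨(k : ℤ), ?_⟩ hdvd
      simp only [d] at hk
      linarith
    obtain ⟨q, hq⟩ : ∃ q : ℕ, n = 9 * q + 1 := ⟨n / 9, by omega⟩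
    obtain ⟨c, hc⟩ := h9
    have h3 : (3 : ℤ) ∣ F χ := by
      rw [hq] at hc
      push_cast at hc
      have : 12 * F χ = 9 * (c - 12 * (q : ℤ) * F χ) := by linarith
      omega
    have hle : F χ ^ 2 ≤ 6 := by
      rw [← hFF]
      exact Finset.single_le_sum (f := fun χ => F χ ^ 2) (fun i _ => sq_nonneg _) (Finset.mem_univ χ)
    have hb1 : -2 ≤ F χ := by nlinarith
    have hb2 : F χ ≤ 2 := by nlinarith
    omega
  -- the kill
  have kill : ∀ (u v : G) (F Tv : IrrCharacter G → ℤ),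
      (∀ χ : IrrCharacter G, (χ : G → ℂ) u = (F χ : ℂ)) →
      (∀ χ : IrrCharacter G, (χ : G → ℂ) v = (Tv χ : ℂ)) → v ^ 2 = 1 →
      (∀ χ : G → ℂ, Cfsg.IsCharacter G χ →
        ∃ k : ℕ, χ 1 + 4 * χ a + 4 * χ b + 6 * χ u + 3 * χ v = 18 * (k : ℂ)) →
      (∀ χ : G → ℂ, Cfsg.IsCharacter G χ →
        ∃ k : ℕ, χ 1 + 4 * χ a + 4 * χ b - 6 * χ u - 3 * χ v = 18 * (k : ℂ)) →
      ∀ χ : IrrCharacter G, (d χ : ℤ) + 4 * A χ + 4 * B χ = 0 → (4 : ℤ) ∣ (d χ : ℤ) + 2 * F χ := by
    intro u v F Tv hF hTv hv2 hmu1 hmu2 χ h0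
    obtain ⟨k₁, hk₁⟩ := hmu1 (χ : G → ℂ) (hchar χ)
    obtain ⟨k₂, hk₂⟩ := hmu2 (χ : G → ℂ) (hchar χ)
    rw [hd1 χ, hA χ, hB χ, hF χ, hTv χ] at hk₁ hk₂
    have e1 : (d χ : ℤ) + 4 * A χ + 4 * B χ + 6 * F χ + 3 * Tv χ = 18 * (k₁ : ℤ) := by
      exact_mod_cast hk₁
    have e2 : (d χ : ℤ) + 4 * A χ + 4 * B χ - 6 * F χ - 3 * Tv χ = 18 * (k₂ : ℤ) := by
      exact_mod_cast hk₂
    have hT : Tv χ = -2 * F χ := by omega
    have h4 := Cfsg.Agent.Helper55.D8.perfect_involution_mod_four hperf (χ : G → ℂ) (hchar χ) v hv2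
      (d χ : ℤ) (Tv χ) (by rw [hd1 χ]; push_cast; rfl) (hTv χ)
    rw [hT] at h4
    obtain ⟨c, hc⟩ := h4
    exact ⟨c, by linarith⟩
  -- parity
  have par : ∀ (u w : G) (F W : IrrCharacter G → ℤ),
      (∀ χ : IrrCharacter G, (χ : G → ℂ) u = (F χ : ℂ)) →
      (∀ χ : IrrCharacter G, (χ : G → ℂ) w = (W χ : ℂ)) → u ^ 2 = w⁻¹ → IsConj w w⁻¹ →
      ∀ χ : IrrCharacter G, (2 : ℤ) ∣ F χ - W χ := by
    intro u w F W hF hW huw hww χ
    have hcf := (Cfsg.Agent.Helper79.isClassFunction_iff_isConj.1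
      (Cfsg.Agent.Helper79.isClassFunction_of_isCharacter (hchar χ))) w w⁻¹ hww
    exact Cfsg.Agent.Helper20.D8.sq_parity (χ : G → ℂ) (hchar χ) u (F χ) (W χ) (hF χ)
      (by rw [huw, ← hcf]; exact hW χ)
  refine ⟨d, A, B, P, Q, n, ?_⟩
  exact
    { dpos := fun χ => Cfsg.Agent.Helper79.irr_charDegree_pos χ
      d_o := hdo
      A_o := hAo
      B_o := hBo
      P_o := hPo
      Q_o := hQo
      lin := fun χ hχ => hlin χ hχ
      AA := by have := nrm a A 18 hA h.ca; exact_mod_cast this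
      BB := by have := nrm b B 18 hB h.cb; exact_mod_cast this
      AB := orth a b A B hA hB hba
      PP := hPP
      QQ := hQQ
      PQ := orth (a * t) (b * s) P Q hP hQ hqp
      AP := orth a (a * t) A P hA hP hpa
      AQ := orth a (b * s) A Q hA hQ hqa
      BP := orth b (a * t) B P hB hP hpb
      BQ := orth b (b * s) B Q hB hQ hqb
      dA := dorth a A hA ha1
      dB := dorth b B hB hb1
      dP := dorth (a * t) P hP hp1
      dQ := dorth (b * s) Q hQ hq1
      dd := by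
        have := Cfsg.Agent.Helper79.sum_charDegree_sq (G := G)
        rw [hcard] at this
        have h2 : ((∑ χ : IrrCharacter G, charDegree (χ : G → ℂ) ^ 2 : ℕ) : ℤ) = ((72 * n : ℕ) : ℤ) := by
          rw [this]
        push_cast at h2
        exact h2
      n10 := hn10
      E1 := by
        rw [← hE a A hA h.e1]
        exact Finset.sum_congr rfl fun χ _ => by ring
      E2 := by
        rw [← hE b B hB h.e2]
        exact Finset.sum_congr rfl fun χ _ => by ring
      m3A := fun χ => ⟨(ma χ : ℤ), by simp only [A]; ring⟩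
      m3B := fun χ => ⟨(mb χ : ℤ), by simp only [B]; ring⟩
      m0 := hm0
      parP := par (a * t) a P A hP hA at2 h.ai
      parQ := par (b * s) b Q B hQ hB bs2 h.bi
      dz := fun χ hA0 hB0 =>
        ⟨vanish (a * t) P hP hidxP hPP χ hA0 hB0, vanish (b * s) Q hQ hidxQ hQQ χ hA0 hB0⟩
      killP := kill (a * t) t P Tt hP hTt h.t2 h.muP1 h.muP2
      killQ := kill (b * s) s Q Ts hQ hTs h.s2 h.muQ1 h.muQ2 }

end chr

end Cfsg.Agent.Helper62.D8
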