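import Mathlib
import Cfsg.Agent.Helper62.D8.Defs
import Cfsg.Agent.Helper31.D8G2
import Cfsg.Agent.Helper31.D8G3
import Cfsg.Agent.Helper31.D8G4
import Cfsg.Agent.Helper47.D8G6
import Cfsg.Agent.Helper47.D8G7
import Cfsg.Agent.Helper89.D8G5
import Cfsg.Agent.Helper89.S3S3G2
import Cfsg.Agent.Helper3.S3S3Main
import Cfsg.Agent.Helper79.CharComplete

/-!
# S3716 (helper62): assembly of the local data `Loc8` from the coordinates `NData8`
-/

set_option autoImplicit false
open Cfsg Finset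

namespace Cfsg.Agent.Helper62.D8

open Cfsg.Agent.Helper3.S3S3 (pairCount)

universe u

section main
variable {G : Type u} [Group G]

theorem ndata8_pow_three {T : Subgroup G} {x y t f : G} (hd : NData8 T x y t f) (u : G)
    (hu : u ∈ T) : u ^ 3 = 1 := by
  obtain ⟨i, k, rfl⟩ := hd.memT u hu
  have hc : Commute (x ^ i) (y ^ k) := (show Commute x y from hd.comm).pow_pow i k
  rw [hc.mul_pow, ← pow_mul, ← pow_mul, mul_comm i 3, mul_comm k 3, pow_mul, pow_mul, hd.x3, hd.y3,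
    one_pow, one_pow, one_mul]

variable [Finite G]

/-- assembly of the local data -/
theorem loc8_of_ndata8 [Fintype G] [DecidableEq G] (T : Sylow 3 G) (x y t f : G)
    (hd : NData8 (T : Subgroup G) x y t f) (hcard : Nat.card (T : Subgroup G) = 9)
    (hloc : ∀ u ∈ (T : Subgroup G), u ≠ 1 →
      Subgroup.centralizer ({u} : Set G) ≤ Subgroup.normalizer ((T : Subgroup G) : Set G)) :
    Loc8 x (x * y) t (f * t) := by
  have hs := Cfsg.Agent.Helper31.D8.NData8.swap hd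
  have hTI : ∀ g u : G, u ∈ (T : Subgroup G) → u ≠ 1 → g * u * g⁻¹ ∈ (T : Subgroup G) →
      g ∈ Subgroup.normalizer ((T : Subgroup G) : Set G) := fun g u hu hu1 hg =>
    Cfsg.Agent.Helper89.S3S3.mem_normalizer_of_conj_mem T hd.commT hloc g u hu hu1 hg
  have hpair := Cfsg.Agent.Helper3.S3S3.local_pair T hd.commT (ndata8_pow_three hd) hloc
  obtain ⟨hb1, hb3, hai, hbi, hnab, hat, ht1, hpi⟩ :=
    Cfsg.Agent.Helper31.D8.fusion8 (T : Subgroup G) x y t f hd hTI
  obtain ⟨-, -, -, -, -, hbs, hs1, hqi⟩ :=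
    Cfsg.Agent.Helper31.D8.fusion8 (T : Subgroup G) (x * y) (x * y⁻¹) (f * t) f⁻¹ hs hTI
  obtain ⟨hca, hcp⟩ :=
    Cfsg.Agent.Helper31.D8.card_centralizers8 (T : Subgroup G) x y t f hd hcard hloc
  obtain ⟨hcb, hcq⟩ :=
    Cfsg.Agent.Helper31.D8.card_centralizers8 (T : Subgroup G) (x * y) (x * y⁻¹) (f * t) f⁻¹ hs
      hcard hloc
  obtain ⟨he1, he2⟩ :=
    Cfsg.Agent.Helper47.D8.pair_count8 (T : Subgroup G) x y t f hd hpair hnab
  obtain ⟨-, hcd⟩ := Cfsg.Agent.Helper47.D8.card_eq8 T x y t f hd hcard hloc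
  have hprod : x * y * (x * y⁻¹) = x⁻¹ := by
    have h1 : x * y * (x * y⁻¹) = x * x := by
      rw [mul_assoc, ← mul_assoc y x, ← hd.comm, mul_assoc x y, mul_inv_cancel, mul_one]
    rw [h1]
    exact eq_inv_of_mul_eq_one_left (by rw [← pow_two, ← pow_succ, hd.x3])
  have hinv : ∀ χ : G → ℂ, Cfsg.IsCharacter G χ → χ x⁻¹ = χ x := fun χ hχ =>
    ((Cfsg.Agent.Helper79.isClassFunction_iff_isConj.1
      (Cfsg.Agent.Helper79.isClassFunction_of_isCharacter hχ)) x x⁻¹ hai).symm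
  have hG5 := fun (χ : G → ℂ) (hχ : Cfsg.IsCharacter G χ) =>
    Cfsg.Agent.Helper89.D8.restrict_sums8 (T : Subgroup G) x y t f hd hcard hloc χ hχ
  have hG5' := fun (χ : G → ℂ) (hχ : Cfsg.IsCharacter G χ) =>
    Cfsg.Agent.Helper89.D8.restrict_sums8 (T : Subgroup G) (x * y) (x * y⁻¹) (f * t) f⁻¹ hs hcard
      hloc χ hχ
  exact
    { a3 := hd.x3
      b3 := hb3
      a1 := hd.x1
      b1 := hb1
      t2 := hd.t2
      s2 := hs.t2
      t1 := ht1
      s1 := hs1
      at_comm := hat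
      bs_comm := hbs
      ai := hai
      bi := hbi
      pi := hpi
      qi := hqi
      nab := hnab
      ca := hca
      cb := hcb
      cp := hcp
      cq := hcq
      e1 := he1
      e2 := he2
      m0 := fun χ hχ => (hG5 χ hχ).1
      muP1 := fun χ hχ => (hG5 χ hχ).2.1
      muP2 := fun χ hχ => (hG5 χ hχ).2.2
      muQ1 := fun χ hχ => by
        obtain ⟨k, hk⟩ := (hG5' χ hχ).2.1
        refine ⟨k, ?_⟩
        rw [hprod, hinv χ hχ] at hk
        rw [← hk]; ring
      muQ2 := fun χ hχ => by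
        obtain ⟨k, hk⟩ := (hG5' χ hχ).2.2
        refine ⟨k, ?_⟩
        rw [hprod, hinv χ hχ] at hk
        rw [← hk]; ring
      card := hcd }

end main

end Cfsg.Agent.Helper62.D8
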