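import Mathlib
import Cfsg.Agent.Helper62.D8.Defs
import Cfsg.Agent.Helper62.D8.Glue
import Cfsg.Agent.Helper62.D8.Loc
import Cfsg.Agent.Helper62.D8.Core
import Cfsg.Agent.Helper49.D8G1a
import Cfsg.Agent.Helper49.D8G1b
import Cfsg.Agent.Helper21.A6Char

/-!
# S3716 (helper62): the main theorem
-/

set_option autoImplicit false
open Cfsg Finset
open scoped commutatorElement

namespace Cfsg.Agent.Helper62.D8

universe u

section main
variable {G : Type u} [Group G] [Finite G]

theorem main (M : Sylow 3 G) (hM9 : Nat.card ↥(M : Subgroup G) = 9)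
    (hMel : ∀ m ∈ (M : Subgroup G), m ^ 3 = 1)
    (hCM : Subgroup.centralizer ((M : Subgroup G) : Set G) = (M : Subgroup G))
    (N : Subgroup G) (hN : N = Subgroup.normalizer ((M : Subgroup G) : Set G))
    (hCg : ∀ g ∈ (M : Subgroup G), g ≠ 1 → Subgroup.centralizer ({g} : Set G) ≤ N)
    (hS : ∀ S : Sylow 2 ↥N, Nonempty (↥(S : Subgroup ↥N) ≃* DihedralGroup 4)) :
    ¬ IsSimpleGroup G := by
  intro hsimple
  classical
  let _ : Fintype G := Fintype.ofFinite G
  have : Finite (IrrCharacter G) := Cfsg.Agent.Helper79.irr_finite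
  let _ : Fintype (IrrCharacter G) := Fintype.ofFinite _
  have hcomm : ∀ s ∈ (M : Subgroup G), ∀ u ∈ (M : Subgroup G), s * u = u * s := by
    intro s hs u hu
    rw [← hCM] at hs
    exact ((Subgroup.mem_centralizer_iff.mp hs) u hu).symm
  obtain ⟨S₀, hS₀N, hiso, hprod, hfaith⟩ := Cfsg.Agent.Helper49.D8.exists_complement8 M hM9 hCM N hN hS
  obtain ⟨x, y, t, f, hd⟩ := Cfsg.Agent.Helper49.D8.ndata8_of_complement (M : Subgroup G) hM9 hMel
    hcomm S₀ hS₀N hiso hprod hfaith
  have hloc : ∀ u ∈ (M : Subgroup G), u ≠ 1 →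
      Subgroup.centralizer ({u} : Set G) ≤ Subgroup.normalizer ((M : Subgroup G) : Set G) := by
    intro u hu hu1
    rw [← hN]
    exact hCg u hu hu1
  have hL := loc8_of_ndata8 M x y t f hd hM9 hloc
  -- `G` is not abelian
  have hty : t * y ≠ y * t := by
    intro hc
    have h1 : t * y * t⁻¹ = y := by rw [hc]; group
    rw [hd.ty] at h1
    -- y⁻¹ = y, so y ^ 2 = 1, and y ^ 3 = 1 gives y = 1
    have h2 : y * y = 1 := by
      nth_rewrite 1 [← h1]
      exact inv_mul_cancel y
    have h3 : y = 1 := by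
      have := hd.y3
      rw [pow_succ, pow_two, h2, one_mul] at this
      exact this
    exact hd.y1 h3
  have hnc : ∃ a b : G, a * b ≠ b * a := ⟨t, y, hty⟩
  have hperf : commutator G = ⊤ := by
    have hn : (commutator G).Normal := inferInstance
    rcases hn.eq_bot_or_eq_top with h | h
    · exfalso
      apply hty
      have hmem : ⁅t, y⁆ ∈ commutator G := by
        rw [commutator_def]
        exact Subgroup.commutator_mem_commutator (Subgroup.mem_top t) (Subgroup.mem_top y)
      rw [h, Subgroup.mem_bot, commutatorElement_eq_one_iff_mul_comm] at hmem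
      exact hmem
    · exact h
  have hlin : ∀ χ : IrrCharacter G, charDegree (χ : G → ℂ) = 1 →
      χ = Cfsg.Agent.Helper79.principalIrr G := fun χ h1 =>
    Cfsg.Agent.Helper21.A6.linear_eq_principal hnc χ h1
  -- `|G| > 72`
  obtain ⟨hN72, n, hcard, hn9⟩ := Cfsg.Agent.Helper47.D8.card_eq8 M x y t f hd hM9 hloc
  have hbig : 72 < Nat.card G := by
    by_contra hle
    have hn1 : n = 1 := by
      rcases Nat.eq_zero_or_pos n with h0 | h0
      · rw [h0] at hn9; omega
      · rw [hcard] at hle
        omega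
    rw [hn1, mul_one] at hcard
    have htop : Subgroup.normalizer ((M : Subgroup G) : Set G) = ⊤ :=
      Subgroup.eq_top_of_card_eq _ (by rw [hN72, hcard])
    have hnorm : (M : Subgroup G).Normal := Subgroup.normalizer_eq_top_iff.mp htop
    rcases hnorm.eq_bot_or_eq_top with h | h
    · rw [h, Subgroup.card_bot] at hM9
      omega
    · rw [h, Subgroup.card_top, hcard] at hM9
      omega
  obtain ⟨d, A, B, P, Q, n', hA⟩ := arith_of_loc8 x (x * y) t (f * t) hL hperf hlin hbig
  exact arith_false _ d A B P Q n' hA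

end main

end Cfsg.Agent.Helper62.D8
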