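import Mathlib
import Cfsg.Agent.Helper62.D8.Defs
import Cfsg.Agent.Helper62.D8.Glue
import Cfsg.Agent.Helper62.D8.Loc
import Cfsg.Agent.Helper62.D8.Core
import Cfsg.Agent.Helper21.A6Char

/-!
# S3716 (helper62): the core statement for a PERFECT group in coordinates

`NData8` for a Sylow 3-subgroup of order 9 with `C_G(u) ≤ N_G(T)` for `u ∈ T#`, `G` perfect and
`|G| > 72`: impossible.  (Used for S3333.)
-/

set_option autoImplicit false
open Cfsg Finset

namespace Cfsg.Agent.Helper62.D8

universe u

section main
variable {G : Type u} [Group G] [Finite G]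

theorem false_of_ndata8_perfect (M : Sylow 3 G) (x y t f : G)
    (hd : NData8 (M : Subgroup G) x y t f) (hM9 : Nat.card ↥(M : Subgroup G) = 9)
    (hloc : ∀ u ∈ (M : Subgroup G), u ≠ 1 →
      Subgroup.centralizer ({u} : Set G) ≤ Subgroup.normalizer ((M : Subgroup G) : Set G))
    (hperf : commutator G = ⊤) (hbig : 72 < Nat.card G) : False := by
  classical
  let _ : Fintype G := Fintype.ofFinite G
  have : Finite (IrrCharacter G) := Cfsg.Agent.Helper79.irr_finite
  let _ : Fintype (IrrCharacter G) := Fintype.ofFinite _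
  have hL := loc8_of_ndata8 M x y t f hd hM9 hloc
  have hlin : ∀ χ : IrrCharacter G, charDegree (χ : G → ℂ) = 1 →
      χ = Cfsg.Agent.Helper79.principalIrr G := by
    intro χ h1
    have hχ1 : (χ : G → ℂ) 1 = 1 := by
      rw [Cfsg.Agent.Helper79.irr_one, h1]; simp
    apply Subtype.ext
    funext u
    have hu : u ∈ commutator G := by rw [hperf]; exact Subgroup.mem_top u
    exact Cfsg.Agent.Helper79.isCharacter_linear_commutator
      (Cfsg.Agent.Helper74.irr_isCharacter χ) hχ1 hu
  obtain ⟨d, A, B, P, Q, n', hA⟩ := arith_of_loc8 x (x * y) t (f * t) hL hperf hlin hbig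
  exact arith_false _ d A B P Q n' hA

end main

end Cfsg.Agent.Helper62.D8
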